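import Groth.Prelude.Def_CohB1
import Groth.Agent.Coherent.Existence.ProjTower
import Groth.Agent.Coherent.CohBC.SectionSpread
import Groth.Agent.Coherent.ProjSpaceBC
import Groth.Agent.Coherent.ProjSpaceBase
import Groth.Agent.Coherent.ProjSpaceFlat
import Groth.Agent.FlatMor12.IsoLocus
import Groth.Agent.Coherent.CohBC.PushStructureIso
import Groth.Agent.PicDef15.ClosedFibre
import Groth.Agent.PicLib.FormalGen
import Groth.Agent.Coherent.CohBC.HomSheaf
import Groth.Agent.S0023

/-!
# Rigidity of projective space over a complete local ring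

A proper flat scheme over a complete Noetherian local ring whose closed fibre is `P^r` carries a
lift of `O(1)` together with lifts of the coordinates, so maps isomorphically to `P^r`.
-/

set_option autoImplicit false
set_option linter.style.haveILetI false
set_option backward.isDefEq.respectTransparency false
set_option maxHeartbeats 800000

universe u

open CategoryTheory CategoryTheory.Limits AlgebraicGeometry Opposite TopologicalSpace
open Groth.Agent.Coherent Groth.Agent.Coherent.Serre Groth.Agent.Coherent.CohBC Groth.Agent.PicLib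
  Groth.Agent.AmpleLib

noncomputable section

namespace Groth.Agent.PnRigid10

/-- A morphism to projective space extends from a closed subscheme meeting every closure. -/
theorem exists_projSpace_lift_of_specializes {R : Type u} [CommRing R] {X T : Scheme.{u}} {n : ℕ} (i : T ⟶ X)
    (hi : ∀ x : X, ∃ z : T, x ⤳ i z) (q : X ⟶ Spec (CommRingCat.of R))
    {L : X.Modules} (hL : PicF.IsInvertible L) (r : T ⟶ CohB1.ProjSpace n R)
    (hr : r ≫ CohB1.ProjSpace.toSpec n R = i ≫ q)
    (τ : (Scheme.Modules.pullback r).obj (Twist.twistProjSpace n R 1) ≅ (Scheme.Modules.pullback i).obj L)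
    (hs : Function.Surjective (pullSec i (U := ⊤) : Γ(L, (⊤ : X.Opens)) → _)) :
    ∃ r' : X ⟶ CohB1.ProjSpace n R, r' ≫ CohB1.ProjSpace.toSpec n R = q ∧ i ≫ r' = r := by
  let O := Twist.twistProjSpace n R 1
  choose σ hσ using fun l : Fin (n + 1) => hs (τ.hom.app ⊤ (ProjUP.pullSec r O (ProjUP.coord n R l)))
  have hcov : ∀ x : X, ∃ l, x ∈ glocus L (σ l) := fun x => by
    obtain ⟨z, hz⟩ := hi x
    obtain ⟨l, hl⟩ := Opens.mem_iSup.1 ((Proj.iSup_basicOpen_eq_top (CohB1.polyGrading n R) _
      (ProjLib.irrelevant_le_span_X n _)).ge (show r z ∈ (⊤ : (CohB1.ProjSpace n R).Opens) from trivial))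
    refine ⟨l, hz.mem_open (glocus L (σ l)).2 ?_⟩
    have h := (PnEmb.preimage_chartOpen r τ
      (σ := fun l => (pullSec i (σ l) : Γ((Scheme.Modules.pullback i).obj L, (⊤ : T.Opens))))
      (fun l => (hσ l).symm) l).le hl
    rw [glocus_pullSec i hL] at h
    exact h
  obtain ⟨r', hr', τ', hτ'⟩ := UPLib.exists_hom_projSpace n q hL σ hcov
  refine ⟨r', hr', ?_⟩
  obtain ⟨c, hc⟩ := RelVALib.exists_compIso i r' (i ≫ r') rfl O
  refine UPLib.eq_of_iso_projSpace n (by rw [Category.assoc, hr', hr])
    (c ≪≫ (Scheme.Modules.pullback i).mapIso τ' ≪≫ τ.symm) fun l => ?_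
  have h1 : c.hom.app ⊤ (ProjUP.pullSec (i ≫ r') O (ProjUP.coord n R l)) =
      pullSec i (U := ⊤) (ProjUP.pullSec r' O (ProjUP.coord n R l)) :=
    (hc ⊤ _ le_rfl).trans (resM_self _ _ _)
  show τ.inv.app ⊤ (((Scheme.Modules.pullback i).map τ'.hom).app ⊤ (c.hom.app ⊤ _)) = _
  rw [h1]
  refine (congrArg (τ.inv.app ⊤) ((pullback_map_app_pullSec i (U := (⊤ : X.Opens)) τ'.hom _).trans
    ((congrArg (pullSec i (U := ⊤)) (hτ' l)).trans (hσ l)))).trans ?_
  show (τ.hom ≫ τ.inv).app ⊤ _ = _
  rw [τ.hom_inv_id]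
  rfl

/-- Vanishing of cohomology transports along isomorphisms. -/
theorem subsingleton_HH_of_iso {Z : Scheme.{u}} {M N : Z.Modules} (e : M ≅ N) (q : ℕ)
    [Subsingleton (Coh.HH Z N q)] : Subsingleton (Coh.HH Z M q) := by
  refine subsingleton_of_forall_eq 0 fun x => ?_
  have e1 : Sheaf.H.map ((toAbFunctor Z).map e.inv) q (Sheaf.H.map ((toAbFunctor Z).map e.hom) q x) = x := by
    rw [← Sheaf.H.map_comp_apply, ← Functor.map_comp, e.hom_inv_id, CategoryTheory.Functor.map_id,
      Sheaf.H.map_id_apply]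
  rw [← e1, Subsingleton.elim (Sheaf.H.map ((toAbFunctor Z).map e.hom) q x) 0, map_zero]

variable {A : Type u} [CommRing A] [IsLocalRing A]

theorem eq_top_of_closedPoint_mem (U : (Spec (CommRingCat.of A)).Opens) (h : IsLocalRing.closedPoint A ∈ U) :
    U = ⊤ := by
  refine TopologicalSpace.Opens.ext (Set.eq_univ_of_forall fun p => ?_)
  exact Specializes.mem_open ((PrimeSpectrum.le_iff_specializes p (IsLocalRing.closedPoint A)).1
    (IsLocalRing.le_maximalIdeal p.2.ne_top)) U.2 h

/-- The residue field of the closed point. -/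
theorem exists_residueIso :
    ∃ ψ : IsLocalRing.ResidueField A →+* (Spec (CommRingCat.of A)).residueField (IsLocalRing.closedPoint A),
      Function.Bijective ψ ∧ ψ.comp (IsLocalRing.residue A) = residueHom (IsLocalRing.closedPoint A) := by
  let y : ↥(Spec (CommRingCat.of A)) := IsLocalRing.closedPoint A
  have hker : RingHom.ker (residueHom y) = IsLocalRing.maximalIdeal A := ker_residueHom y
  have hsurj : Function.Surjective (residueHom y) := by
    haveI : y.asIdeal.IsMaximal := IsLocalRing.maximalIdeal.isMaximal A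
    have h1 := Ideal.algebraMap_residueField_surjective y.asIdeal
    exact (Scheme.Spec.residueFieldIso (CommRingCat.of A) y).symm.commRingCatIsoToRingEquiv.surjective.comp h1
  let ψ : IsLocalRing.ResidueField A →+* (Spec (CommRingCat.of A)).residueField y :=
    Ideal.Quotient.lift (IsLocalRing.maximalIdeal A) (residueHom y) fun a ha => by
      rwa [← RingHom.mem_ker, hker]
  refine ⟨ψ, ⟨ψ.injective, fun b => ?_⟩, RingHom.ext fun a => rfl⟩
  obtain ⟨a, rfl⟩ := hsurj b
  exact ⟨IsLocalRing.residue A a, rfl⟩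

variable [IsNoetherianRing A] [IsAdicComplete (IsLocalRing.maximalIdeal A) A]

/-- Rigidity of projective space. -/
theorem exists_iso_projSpace (r : ℕ) {X : Scheme.{u}} (f : X ⟶ Spec (CommRingCat.of A)) [IsProper f] [Flat f]
    (e₀ : pullback f (Spec.map (CommRingCat.ofHom (IsLocalRing.residue A))) ≅
      CohB1.ProjSpace r (IsLocalRing.ResidueField A))
    (he₀ : e₀.hom ≫ CohB1.ProjSpace.toSpec r (IsLocalRing.ResidueField A) = pullback.snd f _) :
    ∃ e : X ≅ CohB1.ProjSpace r A, e.hom ≫ CohB1.ProjSpace.toSpec r A = f := by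
  let k := IsLocalRing.ResidueField A
  let res := Spec.map (CommRingCat.ofHom (IsLocalRing.residue A))
  let y : ↥(Spec (CommRingCat.of A)) := IsLocalRing.closedPoint A
  let i := pullback.fst f res
  let qP := CohB1.ProjSpace.toSpec r A
  let O := Twist.twistProjSpace r A 1
  obtain ⟨β, hβ⟩ : ∃ β : CohB1.ProjSpace r k ⟶ CohB1.ProjSpace r A,
      IsPullback β (CohB1.ProjSpace.toSpec r k) qP res := ⟨_, isPullback_projSpace r A k⟩
  let r₀ := e₀.hom ≫ β
  have hX₀ : IsPullback r₀ (pullback.snd f res) qP res := by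
    refine hβ.of_iso e₀.symm (Iso.refl _) (Iso.refl _) (Iso.refl _) ?_ ?_ (by simp) (by simp)
    · simp [r₀]
    · rw [Iso.refl_hom, Category.comp_id, Iso.symm_hom, Iso.eq_inv_comp, he₀]
  -- lift the twisting sheaf
  have h2 : Subsingleton (Coh.HH (pullback f res) (Coh.structureModule _) 2) :=
    PicDef15.subsingleton_HH_of_isIso e₀.inv 2 (Groth.Agent.S0023.result r k 2 two_pos)
  have hOinv : PicF.IsInvertible O := isInvertible_twistProjSpaceZ r 1 A
  obtain ⟨L, hL, ⟨τ₀⟩⟩ := PicDef15.picPullbackSurjective_closedFibre f h2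
    ((Scheme.Modules.pullback r₀).obj O) (PicLoc.isInvertible_pullback r₀ hOinv)
  -- the fibre over the closed point
  obtain ⟨ψ, hψ, hψres⟩ := exists_residueIso (A := A)
  haveI : IsIso (CommRingCat.ofHom ψ) := (ConcreteCategory.isIso_iff_bijective _).2 hψ
  let sψ := Spec.map (CommRingCat.ofHom ψ)
  haveI : IsIso sψ := inferInstanceAs (IsIso (Spec.map _))
  letI : X.Over (Spec (CommRingCat.of A)) := ⟨f⟩
  haveI : IsProper (X ↘ Spec (CommRingCat.of A)) := ‹IsProper f›
  let ι := f.fiberι y
  let toκ := f.fiberToSpecResidueField y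
  have hfib : IsPullback ι toκ f (sψ ≫ res) := by
    have h := PerfData.isPullback_fibre (X := X) y
    rw [← hψres] at h
    rw [show sψ ≫ res = Spec.map (CommRingCat.ofHom (ψ.comp (IsLocalRing.residue A))) by
      rw [← Spec.map_comp]; rfl]
    exact h
  let j : f.fiber y ⟶ pullback f res := pullback.lift ι (toκ ≫ sψ) (by rw [hfib.w, Category.assoc])
  have hj : IsPullback j toκ (pullback.snd f res) sψ :=
    IsPullback.of_right (by rw [pullback.lift_fst]; exact hfib) (pullback.lift_snd _ _ _)
      (IsPullback.of_hasPullback f res)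
  let g := j ≫ r₀
  have hg : IsPullback g toκ qP (Spec.map (CommRingCat.ofHom (residueHom y))) := by
    have h := hj.paste_horiz hX₀
    rw [← hψres, show Spec.map (CommRingCat.ofHom (ψ.comp (IsLocalRing.residue A))) = sψ ≫ res by
      rw [← Spec.map_comp]; rfl]
    exact h
  -- no first cohomology on the closed fibre
  have h1 : CohIII.fiberRank f L 1 y = 0 := by
    letI : (f.fiber y).Over (Spec (CommRingCat.of ((Spec (CommRingCat.of A)).residueField y))) := ⟨toκ⟩
    letI : (CohB1.ProjSpace r A).Over (Spec (CommRingCat.of A)) := ⟨qP⟩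
    have hsub := subsingleton_HH_twist_bc r 1 A (residueHom y) (g := g) hg 1 (by omega) (by omega)
    let eL : (Scheme.Modules.pullback ι).obj L ≅ (Scheme.Modules.pullback g).obj O :=
      (Scheme.Modules.pullbackCongr (pullback.lift_fst ι (toκ ≫ sψ) _).symm).app L ≪≫
        ((Scheme.Modules.pullbackComp j i).symm).app L ≪≫ (Scheme.Modules.pullback j).mapIso τ₀ ≪≫
          (Scheme.Modules.pullbackComp j r₀).app O
    haveI : Subsingleton (CohIII.fiberH f L y 1) := by
      haveI := hsub
      exact subsingleton_HH_of_iso eL 1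
    exact Module.finrank_zero_of_subsingleton
  -- lift the sections
  have hLc : Coh.IsCoh L := PicLib.isCoh_of_isInvertible hL
  haveI : Coh.IsQCoh L := hLc.1
  have hfl : FlatMod.IsFlatOver (X ↘ Spec (CommRingCat.of A)) L := isFlatOver_of_isFinLocFree f (Coherent.isFinLocFree_of_invertible hL)
  obtain ⟨D⟩ := nonempty_perfData L hLc hfl
  have hT := D.preservesEpi_TFun_zero fun x => by
    rw [← D.fiberRank_eq hfl x 1]
    let U : (Spec (CommRingCat.of A)).Opens := ⟨_, isOpen_fiberRank_eq_zero f L hLc hfl 1⟩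
    have hU := eq_top_of_closedPoint_mem U h1
    exact (hU.ge (show x ∈ (⊤ : (Spec (CommRingCat.of A)).Opens) from trivial) :)
  letI : (pullback f res).Over (Spec (CommRingCat.of k)) := ⟨pullback.snd f res⟩
  have hsq : IsPullback i ((pullback f res) ↘ Spec (CommRingCat.of k)) (X ↘ Spec (CommRingCat.of A))
      (Spec.map (CommRingCat.ofHom (IsLocalRing.residue A))) := IsPullback.of_hasPullback f res
  have hsurj : Function.Surjective (pullSec i (U := ⊤) : Γ(L, (⊤ : X.Opens)) → _) := fun σ => by
    obtain ⟨s, b, hs, hb⟩ := exists_pullSec_eq_smul i D hfl hT (IsLocalRing.residue A)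
      (fun c => by
        obtain ⟨a, rfl⟩ := IsLocalRing.residue_surjective c
        exact ⟨1, a, by rw [map_one]; exact one_ne_zero, by rw [map_one, one_mul]⟩) hsq σ
    obtain ⟨v, rfl⟩ : IsUnit s := (IsLocalRing.residue_ne_zero_iff_isUnit s).1 hs
    refine ⟨(↑v⁻¹ : A) • b, ?_⟩
    rw [pullSec_smulA (IsLocalRing.residue A) i hsq L ⊤ (↑v⁻¹ : A) b, hb, smul_smul, ← map_mul, Units.inv_mul, map_one, one_smul]
  -- the morphism
  have hclosed : ∀ x : X, ∃ z : ↥(pullback f res), x ⤳ i z := fun x => by
    have hmem : y ∈ closure ({f x} : Set ↥(Spec (CommRingCat.of A))) :=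
      specializes_iff_mem_closure.1 ((PrimeSpectrum.le_iff_specializes (f x) y).1
        (IsLocalRing.le_maximalIdeal (f x).2.ne_top))
    rw [← Set.image_singleton] at hmem
    replace hmem : y ∈ f '' closure {x} := (f.isClosedMap.closure_image_eq_of_continuous f.continuous {x}).le hmem
    obtain ⟨x', hx', hfx'⟩ := hmem
    obtain ⟨z, hz, -⟩ := Scheme.Pullback.exists_preimage_pullback (f := f) (g := res) x'
      (IsLocalRing.closedPoint k) (hfx'.trans (IsLocalRing.comap_closedPoint (IsLocalRing.residue A)).symm)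
    exact ⟨z, hz ▸ specializes_iff_mem_closure.2 hx'⟩
  obtain ⟨r', hr', hir⟩ := exists_projSpace_lift_of_specializes i hclosed f hL r₀
    (by rw [pullback.condition]; exact hX₀.w) τ₀.symm hsurj
  -- isomorphism near the closed fibre, hence everywhere
  haveI : IsProper qP := isProper_projSpace_toSpec r A
  haveI : IsProper (r' ≫ qP) := by rw [hr']; infer_instance
  haveI : Flat (r' ≫ qP) := by rw [hr']; infer_instance
  haveI : LocallyOfFinitePresentation qP := locallyOfFinitePresentation_of_isLocallyNoetherian qP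
  haveI : LocallyOfFinitePresentation (r' ≫ qP) := locallyOfFinitePresentation_of_isLocallyNoetherian (r' ≫ qP)
  have hfibre : IsIso (pullback.snd r' (qP.fiberι y)) := by
    have hsqr : IsPullback i e₀.hom r' β := by
      refine IsPullback.of_bot (v₂₁ := CohB1.ProjSpace.toSpec r k) (v₂₂ := qP) (h₃₁ := res) ?_ hir hβ
      rw [he₀, hr']
      exact IsPullback.of_hasPullback f res
    let sκ := qP.fiberToSpecResidueField y
    have hpe : Spec.map (CommRingCat.ofHom (residueHom y)) = (Spec (CommRingCat.of A)).fromSpecResidueField y := by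
      rw [← Scheme.Spec.map_residueFieldIso_inv_eq_fromSpecResidueField, ← Spec.map_comp]
      rfl
    have hpe' : sψ ≫ res = (Spec (CommRingCat.of A)).fromSpecResidueField y := by
      rw [← hpe, ← hψres, ← Spec.map_comp]; rfl
    let k' : qP.fiber y ⟶ CohB1.ProjSpace r k := hβ.lift (qP.fiberι y) (sκ ≫ sψ) (by
      rw [Category.assoc, hpe']
      exact pullback.condition)
    have hk' : k' ≫ β = qP.fiberι y := hβ.lift_fst _ _ _
    have h := (IsPullback.of_hasPullback e₀.hom k').paste_horiz hsqr
    rw [hk'] at h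
    rw [← h.isoPullback_inv_snd]
    infer_instance
  obtain ⟨U, hU, hiso⟩ := FlatMor12.exists_isOpen_fibreIso r' qP
  have hUtop : U = ⊤ := eq_top_of_closedPoint_mem U ((hU y).2 hfibre)
  subst hUtop
  haveI : IsIso r' := (IsZariskiLocalAtTarget.iff_of_iSup_eq_top (P := MorphismProperty.isomorphisms Scheme)
    (fun _ : Unit => qP ⁻¹ᵁ (⊤ : (Spec (CommRingCat.of A)).Opens)) (by simp)).2 fun _ => hiso
  exact ⟨asIso r', hr'⟩

end Groth.Agent.PnRigid10
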